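import Groth.Agent.S4271
import Groth.Agent.L17.CohVanLocFree
import Groth.Agent.L16.NegPow.Affine
import Groth.Agent.L16.CohLinear

/-!
# Cohomological dimension from locally free modules on regular schemes
-/

set_option autoImplicit false
set_option linter.style.haveILetI false
set_option backward.isDefEq.respectTransparency false
set_option backward.isDefEq.respectTransparency.types false
universe u

open CategoryTheory CategoryTheory.Limits AlgebraicGeometry TopologicalSpace Opposite

namespace Groth.L04.CohDimVan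

open Groth.L16.CohLinear

variable {X : Scheme.{u}}

/-- Descending induction along a generating class. -/
theorem descend [AlgebraicGeometry.IsNoetherian X] (P : X.Modules → ℕ → Prop) (r : ℕ)
    (hbig : ∀ G : X.Modules, ∀ q, Subsingleton (Coh.HH X G q) → P G q)
    (hstep : ∀ {S : ShortComplex X.Modules}, S.ShortExact → ∀ q, P S.X₂ q → P S.X₁ (q + 1) → P S.X₃ q)
    (hgen : ∀ G : X.Modules, Coh.IsCoh G → ∃ (E : X.Modules) (p : E ⟶ G), Epi p ∧ Coh.IsCoh E ∧
      ∀ q, r < q → P E q)
    (F : X.Modules) (hF : Coh.IsCoh F) (i : ℕ) (hi : r < i) : P F i := by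
  obtain ⟨d, hd⟩ := Groth.L17.exists_bound_qcqs (⊤ : X.Opens) isCompact_univ
  suffices key : ∀ (j : ℕ) (G : X.Modules), Coh.IsCoh G → ∀ q, r < q → d ≤ q + j → P G q from
    key d F hF i hi (by omega)
  intro j
  induction j with
  | zero =>
    intro G hG q _ hq
    haveI := hG.1
    haveI := subsingleton_of_forall_eq 0 (hd G q (by omega))
    exact hbig G q (Groth.L17.hTopEquiv (X := X.toTopCat) (Coh.toAb G) q).subsingleton
  | succ j ih =>
    intro G hG q hq hqj
    obtain ⟨E, p, hp, hEc, hE⟩ := hgen G hG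
    haveI := hp
    haveI := hG.1
    haveI := hEc.1
    haveI : Coh.IsQCoh (kernel p) := (Groth.L00.AlgQCoh.isQCoh_kernel_cokernel _ ‹_› ‹_›).1
    have hK : Coh.IsCoh (kernel p) := Groth.L16.Rees.RelVanish.isCoh_of_mono (kernel.ι p) hEc
    have hS : (ShortComplex.mk (kernel.ι p) p (kernel.condition p)).ShortExact :=
      { exact := ShortComplex.exact_kernel p }
    exact hstep hS q (hE q hq) (ih (kernel p) hK (q + 1) (by omega) (by omega))

theorem step_subsingleton {S : ShortComplex X.Modules} (hS : S.ShortExact) (q : ℕ)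
    (h2 : Subsingleton (Coh.HH X S.X₂ q)) (h1 : Subsingleton (Coh.HH X S.X₁ (q + 1))) :
    Subsingleton (Coh.HH X S.X₃ q) := by
  refine subsingleton_of_forall_eq 0 fun x => ?_
  obtain ⟨y, rfl⟩ := (exact_hmap_delta hS q x).1 (Subsingleton.elim _ _)
  rw [Subsingleton.elim y 0, map_zero]

theorem hasResolutionProperty_of_regular [AlgebraicGeometry.IsNoetherian X] [X.IsSeparated]
    (hreg : ∀ x : X, IsRegularLocalRing (X.presheaf.stalk x)) : PerfAux.HasResolutionProperty X := by
  have h := Groth.Agent.S4271.result X hreg fun U V hU hV => hU.inf hV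
  refine Groth.L20.ResDescent.hasResolutionProperty_of_genLocus fun x => ?_
  obtain ⟨L, n, s, hL, -, hx, hs⟩ := h.2 x
  exact ⟨_, s, Groth.L18.Ample.isInvertible_tensorPow hL n, hx, hs⟩

section OverField

variable (k : Type u) [Field k] (S : Scheme.{u})
    [S.Over (Spec (CommRingCat.of k))] [IsSeparated (S ↘ (Spec (CommRingCat.of k)))]
    [LocallyOfFiniteType (S ↘ (Spec (CommRingCat.of k)))] [QuasiCompact (S ↘ (Spec (CommRingCat.of k)))]

include k in
theorem isNoetherian_of_over : AlgebraicGeometry.IsNoetherian S := by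
  haveI : IsLocallyNoetherian S := LocallyOfFiniteType.isLocallyNoetherian (S ↘ Spec (CommRingCat.of k))
  haveI : CompactSpace S := QuasiCompact.compactSpace_of_compactSpace (S ↘ Spec (CommRingCat.of k))
  exact {}

variable (hreg : ∀ x : S, IsRegularLocalRing (S.presheaf.stalk x)) (r : ℕ)

include k hreg in
theorem vanishing_of_locFree
    (hlf : ∀ E : S.Modules, FlatMod.IsFinLocFree E → ∀ i : ℕ, r < i → Subsingleton (Coh.HH S E i))
    (F : S.Modules) (hF : Coh.IsCoh F) (i : ℕ) (hi : r < i) : Subsingleton (Coh.HH S F i) := by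
  haveI := isNoetherian_of_over k S
  haveI : S.IsSeparated := ⟨by
    rw [← terminal.comp_from (S ↘ Spec (CommRingCat.of k))]
    infer_instance⟩
  exact Groth.L17.CohVanLocFree.subsingleton_of_resolutionProperty (hasResolutionProperty_of_regular hreg)
    r hlf F hF i hi

include hreg in
theorem finite_of_locFree
    (hlf : ∀ E : S.Modules, FlatMod.IsFinLocFree E → ∀ i : ℕ, r < i → Module.Finite k (Coh.HH S E i))
    (F : S.Modules) (hF : Coh.IsCoh F) (i : ℕ) (hi : r < i) : Module.Finite k (Coh.HH S F i) := by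
  haveI := isNoetherian_of_over k S
  haveI : S.IsSeparated := ⟨by
    rw [← terminal.comp_from (S ↘ Spec (CommRingCat.of k))]
    infer_instance⟩
  have hR := hasResolutionProperty_of_regular hreg
  refine descend (fun (G : S.Modules) (q : ℕ) => Module.Finite k (Coh.HH S G q)) r
    (fun (G : S.Modules) (q : ℕ) (h : Subsingleton (Coh.HH S G q)) => ⟨⟨∅, Subsingleton.elim _ _⟩⟩)
    (fun hS q h2 h1 => by haveI := h2; haveI := h1; exact finite_right k hS q)
    (fun G hG => ?_) F hF i hi
  obtain ⟨E, p, hE, hp⟩ := hR G hG.1 hG.2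
  exact ⟨E, p, hp, Groth.L16.NegPow.isCoh_of_isFinLocFree hE, hlf E hE⟩

include k hreg in
theorem vanishing_of_negPowers (L M : S.Modules) (hL : CohB1.IsAmple L) (hM : ClSub.IsInverseOf M L)
    (hneg : ∃ m₀ : ℕ, ∀ m : ℕ, m₀ ≤ m → ∀ i : ℕ, r < i → Subsingleton (Coh.HH S (CohB1.tensorPow M m) i))
    (F : S.Modules) (hF : Coh.IsCoh F) (i : ℕ) (hi : r < i) : Subsingleton (Coh.HH S F i) := by
  haveI := isNoetherian_of_over k S
  haveI : S.IsSeparated := ⟨by
    rw [← terminal.comp_from (S ↘ Spec (CommRingCat.of k))]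
    infer_instance⟩
  have hR := hasResolutionProperty_of_regular hreg
  obtain ⟨e'⟩ := hM
  obtain ⟨m₀, hm₀⟩ := hneg
  refine descend (fun (G : S.Modules) (q : ℕ) => Subsingleton (Coh.HH S G q)) r (fun _ _ h => h)
    (fun hS q => step_subsingleton hS q) (fun G hG => ?_) F hF i hi
  obtain ⟨E, p, hE, hp⟩ := hR G hG.1 hG.2
  obtain ⟨n₀, hn₀⟩ := Groth.L16.NegPow.exists_epi_negPow hL (Groth.L00.Tensor.tensorComm L M ≪≫ e') hE
  obtain ⟨c, q, hq⟩ := hn₀ (max n₀ m₀) (le_max_left _ _)
  haveI := hp
  haveI := hq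
  have hinv := Groth.L16.NegPow.isInvertible_inverse hL.1 (Groth.L00.Tensor.tensorComm L M ≪≫ e')
  exact ⟨_, q ≫ p, epi_comp q p,
    Groth.L16.NegPow.isCoh_of_isFinLocFree
      (Groth.L16.NegPow.isFinLocFree_freeTensor (Groth.L18.Ample.isInvertible_tensorPow hinv _) c),
    fun j hj => Groth.L16.NegPow.subsingleton_HH_freeTensor _ c j (hm₀ _ (le_max_right _ _) j hj)⟩

end OverField

end Groth.L04.CohDimVan
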