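import Groth.Agent.L18.GrMod.Chart
import Groth.Agent.L21.PlaneCurve.HypIdeal
import Groth.Agent.L16.ProjSpace.Dim
import Groth.Agent.L17.CoverVanishing
import Mathlib.RingTheory.Artinian.Ring
import Mathlib.RingTheory.Artinian.Module

/-!
# Complements of set-theoretic complete intersections
-/

set_option autoImplicit false
set_option linter.style.haveILetI false
set_option backward.isDefEq.respectTransparency false

universe u

open CategoryTheory CategoryTheory.Limits AlgebraicGeometry TopologicalSpace Opposite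

noncomputable section

namespace Groth.L04.CompleteInt

section General

variable {A σ : Type u} [CommRing A] [SetLike σ A] [AddSubgroupClass σ A] {𝒜 : ℕ → σ} [GradedRing 𝒜]
  {d : ℕ} {f : A} (hf : f ∈ 𝒜 d)

theorem mem_basicOpen_awayToSection (m : ℕ) (a : A) (ha : a ∈ 𝒜 (m • d)) (x : ProjectiveSpectrum 𝒜)
    (hxf : f ∉ x.asHomogeneousIdeal) :
    x ∈ ((Proj 𝒜).basicOpen (Proj.awayToSection 𝒜 f (HomogeneousLocalization.Away.mk 𝒜 hf m a ha)) :
      Opens (ProjectiveSpectrum.top 𝒜)) ↔ a ∉ x.asHomogeneousIdeal := by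
  let g := HomogeneousLocalization.Away.mk 𝒜 hf m a ha
  constructor
  · intro hx
    have hu := (Scheme.mem_basicOpen (Proj 𝒜) (Proj.awayToSection 𝒜 f g) x
      ((Proj.mem_basicOpen _ _ _).2 hxf)).1 hx
    have hu' := hu.map (Proj.stalkIso' 𝒜 x)
    erw [Proj.stalkIso'_germ] at hu'
    have hu'' := hu'.map (algebraMap (GrTwist.A0 𝒜 x) (GrTwist.Loc 𝒜 x))
    rw [HomogeneousLocalization.algebraMap_apply] at hu''
    erw [ProjectiveSpectrum.Proj.awayToSection_apply 𝒜 f g ⟨x, (Proj.mem_basicOpen _ _ _).2 hxf⟩] at hu''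
    rw [HomogeneousLocalization.Away.val_mk, Localization.mk_eq_mk', IsLocalization.map_mk'] at hu''
    exact ((IsLocalization.AtPrime.isUnit_mk'_iff (S := GrTwist.Loc 𝒜 x) x.asHomogeneousIdeal.toIdeal _ _).1 hu'')
  · intro hxa
    refine (Scheme.mem_basicOpen (Proj 𝒜) (Proj.awayToSection 𝒜 f g) x
      ((Proj.mem_basicOpen _ _ _).2 hxf)).2 ((MulEquiv.isUnit_map (Proj.stalkIso' 𝒜 x)).1 ?_)
    erw [Proj.stalkIso'_germ]
    refine (HomogeneousLocalization.isUnit_iff_isUnit_val _ _ _).1 ?_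
    erw [ProjectiveSpectrum.Proj.awayToSection_apply 𝒜 f g ⟨x, (Proj.mem_basicOpen _ _ _).2 hxf⟩]
    rw [HomogeneousLocalization.Away.val_mk, Localization.mk_eq_mk', IsLocalization.map_mk']
    exact (IsLocalization.AtPrime.isUnit_mk'_iff (S := GrTwist.Loc 𝒜 x) x.asHomogeneousIdeal.toIdeal _ _).2 hxa

end General

variable {n : ℕ} {k : Type u} [Field k]

theorem mem_support_hypIdeal {d : ℕ} (G : LefPen.Form n k d) (x : CohB1.ProjSpace n k) :
    x ∈ (LefPen.hypIdeal G).support ↔ x ∉ Proj.basicOpen (CohB1.polyGrading n k) G.1 := by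
  obtain ⟨i, hi⟩ := Groth.L21.PlaneCurve.exists_mem_chart x
  rw [Scheme.IdealSheafData.mem_support_iff_of_mem
      (U := ⟨LefPen.chart n k i, Groth.L21.PlaneCurve.isAffineOpen_chart i⟩) hi,
    Groth.L21.PlaneCurve.hypIdeal_chart, Scheme.zeroLocus_span, Scheme.zeroLocus_singleton]
  show x ∉ _ ↔ _
  refine not_congr ?_
  rw [SetLike.mem_coe]
  exact (mem_basicOpen_awayToSection (𝒜 := CohB1.polyGrading n k) (LefPen.X_mem n k i) d G.1 _ x
    ((Proj.mem_basicOpen _ _ _).1 hi)).trans (Proj.mem_basicOpen _ _ _).symm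

theorem compl_support_ciIdeal {ι : Type} {a : ι → ℕ} (G : ∀ j, LefPen.Form n k (a j)) :
    ((LefPen.ciIdeal G).support : Set (CohB1.ProjSpace n k))ᶜ =
      ⋃ j, SetLike.coe (A := (CohB1.ProjSpace n k).Opens) (Proj.basicOpen (CohB1.polyGrading n k) (G j).1) := by
  ext x
  rw [Set.mem_compl_iff, SetLike.mem_coe, LefPen.ciIdeal, Scheme.IdealSheafData.support_iSup, Set.mem_iUnion,
    ← SetLike.mem_coe, TopologicalSpace.Closeds.coe_iInf, Set.mem_iInter]
  push Not
  refine exists_congr fun j => ?_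
  rw [SetLike.mem_coe, mem_support_hypIdeal, not_not]
  rfl

/-- A finite intersection of affine opens in a separated scheme is affine. -/
theorem isAffineOpen_inf {X : Scheme.{u}} [X.IsSeparated] {ι : Type*} (V : ι → X.Opens) (hV : ∀ i, IsAffineOpen (V i))
    {s : Finset ι} (hs : s.Nonempty) : IsAffineOpen (s.inf V) := by
  classical
  induction hs using Finset.Nonempty.cons_induction with
  | singleton a => rw [Finset.inf_singleton]; exact hV a
  | cons a t ha ht ih => rw [Finset.inf_cons]; exact (hV a).inf ih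

/-- Vanishing above the number of affines for a quasi-coherent module on an open subscheme. -/
theorem subsingleton_of_cover {X : Scheme.{u}} [X.IsSeparated] (U : X.Opens) {t : ℕ} (V : Fin t → X.Opens)
    (hV : ∀ i, IsAffineOpen (V i)) (hU : U = ⨆ i, V i) (F : (U : Scheme.{u}).Modules) [Coh.IsQCoh F]
    (i : ℕ) (hi : t ≤ i) : Subsingleton (Coh.HH (U : Scheme.{u}) F i) := by
  refine Groth.L17.subsingleton_HH_of_affine_cover t (fun j => U.ι ⁻¹ᵁ V j) ?_ (fun s hs => ?_) F i hi
  · ext x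
    simp only [TopologicalSpace.Opens.coe_iSup, Set.mem_iUnion, TopologicalSpace.Opens.coe_top, Set.mem_univ, iff_true]
    obtain ⟨j, hj⟩ := TopologicalSpace.Opens.mem_iSup.1 (hU.le x.2)
    exact ⟨j, hj⟩
  · have e : (s.inf fun j => U.ι ⁻¹ᵁ V j) = U.ι ⁻¹ᵁ (s.inf V) := by
      classical
      induction hs using Finset.Nonempty.cons_induction with
      | singleton a => simp
      | cons a t' ha ht ih => rw [Finset.inf_cons, Finset.inf_cons, ih, Scheme.Hom.preimage_inf]
    rw [e]
    obtain ⟨j, hj⟩ := hs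
    exact (isAffineOpen_inf V hV ⟨j, hj⟩).preimage_of_isOpenImmersion U.ι
      (((Finset.inf_le hj).trans (le_iSup V j)).trans (hU.ge.trans (Scheme.Opens.opensRange_ι U).ge))

/-- An affine integral scheme with finite-dimensional `H⁰` has dimension zero. -/
theorem dim_eq_zero_of_finite (k : Type u) [Field k] (Y : Scheme.{u}) [Y.Over (Spec (CommRingCat.of k))]
    [IsIntegral Y] [IsAffine Y] [Module.Finite k (Coh.HH Y (Coh.structureModule Y) 0)] :
    topologicalKrullDim Y = 0 := by
  let s := Y ↘ Spec (CommRingCat.of k)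
  letI : Algebra k Γ(Y, ⊤) := ((s.appTop).hom.comp (Scheme.ΓSpecIso (CommRingCat.of k)).inv.hom).toAlgebra
  let hT : IsTerminal (⊤ : TopologicalSpace.Opens Y) :=
    IsTerminal.ofUniqueHom (fun U => homOfLE le_top) (fun _ _ => rfl)
  let F := Coh.toAb (Coh.structureModule Y)
  let e : Coh.HH Y (Coh.structureModule Y) 0 ≃+ Γ(Y, ⊤) := Sheaf.H.equiv₀ F hT
  have he : ∀ (c : k) x, e (c • x) = c • e x := fun c x => by
    show _ = (s.appTop).hom ((Scheme.ΓSpecIso (CommRingCat.of k)).inv.hom c) * e x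
    show Sheaf.H.equiv₀ F hT (Sheaf.H.map (Coh.smulAb (Coh.structureModule Y) _) 0 x) = _
    rw [← Sheaf.H.equiv₀_naturality]
    refine (Coh.smulAb_app (Coh.structureModule Y) _ (Opposite.op ⊤) _).trans ?_
    show Coh.resTop Y (Opposite.op ⊤) _ * _ = _
    congr 1
    simp [Coh.resTop, s]
    rfl
  let el : Coh.HH Y (Coh.structureModule Y) 0 ≃ₗ[k] Γ(Y, ⊤) := { e with map_smul' := he }
  haveI : Module.Finite k Γ(Y, ⊤) := Module.Finite.equiv el
  haveI : IsArtinianRing Γ(Y, ⊤) := IsArtinianRing.of_finite k _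
  rw [IsHomeomorph.topologicalKrullDim_eq _
    (TopCat.homeoOfIso (Scheme.forgetToTop.mapIso Y.isoSpec)).isHomeomorph]
  show topologicalKrullDim (PrimeSpectrum Γ(Y, ⊤)) = 0
  rw [PrimeSpectrum.topologicalKrullDim_eq_ringKrullDim]
  exact ringKrullDim_eq_zero_of_isField (IsArtinianRing.isField_of_isDomain _)

end Groth.L04.CompleteInt
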