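import Groth.Agent.L17.AffineVanishing
import Groth.Agent.L16.CohLinear

/-!
# Cohomology of an open subscheme, naturally in the sheaf, and compatibly with scalars
-/

set_option autoImplicit false
set_option linter.style.haveILetI false
set_option backward.isDefEq.respectTransparency false
set_option backward.isDefEq.respectTransparency.types false

universe u

open CategoryTheory CategoryTheory.Limits TopologicalSpace Opposite Abelian AlgebraicGeometry
open Groth.L17

noncomputable section

namespace Groth.L04.HuNat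

section Top

variable {X Y : TopCat.{u}} (G : AbSheaf X ⥤ AbSheaf Y) [G.Additive] (U : Opens X) (V : Opens Y)

/-- Connecting map in cohomology. -/
def dl {S : ShortComplex (AbSheaf X)} (hS : S.ShortExact) (n : ℕ) : HU U S.X₃ n →+ HU U S.X₁ (n + 1) :=
  AddMonoidHom.mk' (fun y => y.comp hS.extClass (rfl : n + 1 = n + 1)) fun a b => Ext.add_comp _ _ _ _

theorem dl_surjective {S : ShortComplex (AbSheaf X)} (hS : S.ShortExact) (n : ℕ)
    (h : ∀ x : HU U S.X₂ (n + 1), x = 0) : Function.Surjective (dl U hS n) := fun x =>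
  Ext.covariant_sequence_exact₁ (hS := hS) _ x (h _) rfl

theorem dl_ker {S : ShortComplex (AbSheaf X)} (hS : S.ShortExact) (n : ℕ) (y : HU U S.X₃ n) :
    dl U hS n y = 0 ↔ ∃ x : HU U S.X₂ n, huMap S.g x = y := by
  refine ⟨fun h => Ext.covariant_sequence_exact₃ _ hS y rfl h, ?_⟩
  rintro ⟨x, rfl⟩
  simp [dl, huMap, hS.comp_extClass]

theorem exists_equiv
    (η : ∀ F : AbSheaf X, F.obj.obj (op U) ≃+ (G.obj F).obj.obj (op V))
    (hη : ∀ {F F' : AbSheaf X} (f : F ⟶ F') (s : F.obj.obj (op U)),
      η F' (f.hom.app (op U) s) = (G.map f).hom.app (op V) (η F s))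
    (hG : ∀ F : AbSheaf X, TopCat.Presheaf.IsFlasque (X := X) F.obj →
      TopCat.Presheaf.IsFlasque (X := Y) (G.obj F).obj)
    (hE : ∀ F : AbSheaf X, ((injSeq F).map G).ShortExact) :
    ∀ n : ℕ, ∃ e : ∀ F : AbSheaf X, HU U F n ≃+ HU V (G.obj F) n,
      ∀ (F F' : AbSheaf X) (f : F ⟶ F') (x : HU U F n), e F' (huMap f x) = huMap (G.map f) (e F x) := by
  intro n
  induction n with
  | zero =>
    refine ⟨fun F => ((hu₀ U F).trans (η F)).trans (hu₀ V _).symm, fun F F' f x => ?_⟩
    apply (hu₀ V _).injective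
    simp only [AddEquiv.trans_apply, AddEquiv.apply_symm_apply, hu₀_map, hη]
  | succ n ih =>
    obtain ⟨e, he⟩ := ih
    have hI : ∀ (F : AbSheaf X) (x : HU U (injSeq F).X₂ (n + 1)), x = 0 := fun F =>
      hu_eq_zero_of_flasque U n _
    have hI' : ∀ (F : AbSheaf X) (x : HU V (G.obj (injSeq F).X₂) (n + 1)), x = 0 := fun F => by
      haveI : TopCat.Presheaf.IsFlasque (X := Y) (G.obj (injSeq F).X₂).obj := hG _ inferInstance
      exact hu_eq_zero_of_flasque V n _
    have hs : ∀ F, Function.Surjective (dl U (injSeq_shortExact F) n) := fun F => dl_surjective U _ n (hI F)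
    let β : ∀ F, HU U (injSeq F).X₃ n →+ HU V (G.obj F) (n + 1) := fun F =>
      (dl V (hE F) n).comp (e (injSeq F).X₃).toAddMonoidHom
    have hβs : ∀ F, Function.Surjective (β F) := fun F z => by
      obtain ⟨y, hy⟩ := dl_surjective V (hE F) n (hI' F) z
      exact ⟨(e _).symm y, (congrArg (dl V (hE F) n) ((e _).apply_symm_apply y)).trans hy⟩
    have hker : ∀ F, (dl U (injSeq_shortExact F) n).ker = (β F).ker := fun F => by
      ext y
      simp only [AddMonoidHom.mem_ker]
      rw [dl_ker]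
      refine Iff.trans ?_ (dl_ker V (hE F) n (e _ y)).symm
      constructor
      · rintro ⟨x, rfl⟩
        exact ⟨e _ x, (he _ _ _ x).symm⟩
      · rintro ⟨z, hz⟩
        obtain ⟨x, rfl⟩ := (e _).surjective z
        exact ⟨x, (e _).injective ((he _ _ _ x).trans hz)⟩
    let E : ∀ F, HU U F (n + 1) ≃+ HU V (G.obj F) (n + 1) := fun F =>
      (QuotientAddGroup.quotientKerEquivOfSurjective _ (hs F)).symm.trans
        ((QuotientAddGroup.quotientAddEquivOfEq (hker F)).trans
          (QuotientAddGroup.quotientKerEquivOfSurjective _ (hβs F)))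
    have hE' : ∀ F y, E F (dl U (injSeq_shortExact F) n y) = β F y := fun F y => by
      have : (QuotientAddGroup.quotientKerEquivOfSurjective _ (hs F)).symm (dl U (injSeq_shortExact F) n y) =
          QuotientAddGroup.mk y := (AddEquiv.symm_apply_eq _).2 rfl
      simp only [E, AddEquiv.trans_apply, this]
      rfl
    refine ⟨E, fun F F' f x => ?_⟩
    obtain ⟨y, rfl⟩ := hs F x
    haveI : Mono (injSeq F).f := (injSeq_shortExact F).mono_f
    haveI : Injective (injSeq F').X₂ := inferInstanceAs (Injective (Injective.under F'))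
    let f₂ : (injSeq F).X₂ ⟶ (injSeq F').X₂ := Injective.factorThru (f ≫ (injSeq F').f) (injSeq F).f
    have h12 : f ≫ (injSeq F').f = (injSeq F).f ≫ f₂ :=
      (Injective.comp_factorThru (f ≫ (injSeq F').f) (injSeq F).f).symm
    obtain ⟨f₃, hf₃⟩ := CokernelCofork.IsColimit.desc' (injSeq_shortExact F).gIsCokernel
      (f₂ ≫ (injSeq F').g) (by
        rw [← Category.assoc, ← h12, Category.assoc, (injSeq F').zero, comp_zero])
    let τ : injSeq F ⟶ injSeq F' := { τ₁ := f, τ₂ := f₂, τ₃ := f₃, comm₁₂ := h12, comm₂₃ := hf₃.symm }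
    have h1 : huMap f (dl U (injSeq_shortExact F) n y) = dl U (injSeq_shortExact F') n (huMap f₃ y) := by
      simp only [dl, huMap, AddMonoidHom.mk'_apply]
      rw [Ext.comp_assoc_of_second_deg_zero, Ext.comp_assoc_of_third_deg_zero]
      exact congrArg (fun z => Ext.comp y z (rfl : n + 1 = n + 1))
        (ShortComplex.ShortExact.extClass_naturality (injSeq_shortExact F) (injSeq_shortExact F') τ)
    rw [h1, hE', hE']
    show dl V (hE F') n (e _ (huMap f₃ y)) = huMap (G.map f) (dl V (hE F) n (e _ y))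
    rw [he]
    simp only [dl, huMap, AddMonoidHom.mk'_apply]
    rw [Ext.comp_assoc_of_second_deg_zero, Ext.comp_assoc_of_third_deg_zero]
    exact congrArg (fun z => Ext.comp (e _ y) z (rfl : n + 1 = n + 1))
      (ShortComplex.ShortExact.extClass_naturality (hE F) (hE F') (G.mapShortComplex.map τ)).symm

end Top

variable {X Z : Scheme.{u}}

theorem restrAb_smulAb (j : Z ⟶ X) [IsOpenImmersion j] (M : X.Modules) (r : Coh.Γtop X) :
    (restrAb j).map (Coh.smulAb M r) = Coh.smulAb (M.restrict j) (j.appTop r) := by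
  ext O m
  refine congrArg (fun c : Γ(X, j ''ᵁ O.unop) => c • (show Γ(M, j ''ᵁ O.unop) from m)) ?_
  show (X.presheaf.map _).hom r = (j.appIso O.unop).inv.hom ((Z.presheaf.map _).hom (j.appTop.hom r))
  rw [← CategoryTheory.comp_apply, ← CategoryTheory.comp_apply]
  have h : X.presheaf.map (homOfLE (le_top : j ''ᵁ O.unop ≤ ⊤)).op =
      j.appTop ≫ Z.presheaf.map (homOfLE (le_top : O.unop ≤ ⊤)).op ≫ (j.appIso O.unop).inv := by
    rw [← Category.assoc]
    exact (Scheme.Hom.appLE_appIso_inv j (U := ⊤) (V := O.unop) le_top).symm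
  exact congrArg (fun φ : Γ(X, ⊤) ⟶ Γ(X, j ''ᵁ O.unop) => φ (show Γ(X, ⊤) from r)) h

/-- cohomology of an open subscheme is computed on its image, compatibly with global functions -/
theorem exists_hhEquiv (j : Z ⟶ X) [IsOpenImmersion j] (M : X.Modules) (n : ℕ) :
    ∃ e : Coh.HH Z (M.restrict j) n ≃+ HU (X := X.toTopCat) j.opensRange (Coh.toAb M) n,
      ∀ (r : Coh.Γtop X) (x : Coh.HH Z (M.restrict j) n),
        e ((show Coh.Γtop Z from j.appTop r) • x) = huMap (Coh.smulAb M r) (e x) := by
  obtain ⟨c, hc⟩ := exists_equiv (restrAb j) (j ''ᵁ ⊤) ⊤ (fun F => AddEquiv.refl (F.obj.obj (op (j ''ᵁ ⊤))))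
    (fun _ _ => rfl) (restrAb_flasque j) (fun F => shortExact_restrAb j (injSeq_shortExact F)) n
  rw [← Scheme.Hom.image_top_eq_opensRange j]
  refine ⟨(hTopEquiv (X := Z.toTopCat) (Coh.toAb (M.restrict j)) n).trans (c (Coh.toAb M)).symm, fun r x => ?_⟩
  apply (c (Coh.toAb M)).injective
  rw [hc]
  simp only [AddEquiv.trans_apply]
  rw [restrAb_smulAb]
  refine ((c _).apply_symm_apply _).trans (Eq.trans ?_
    (congrArg (huMap _) ((c _).apply_symm_apply _)).symm)
  exact (Ext.comp_assoc_of_third_deg_zero (Ext.mk₀ (zFreeTopIso (X := Z.toTopCat)).hom) x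
    (Ext.mk₀ (Coh.smulAb (M.restrict j) (j.appTop r))) (zero_add n)).symm

end Groth.L04.HuNat
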