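import Groth.Agent.L04.LC.PuncturedLinear
import Groth.Agent.L04.LC.LocNat
import Groth.Agent.L04.LC.Nonvanish
import Groth.Agent.L22.AffineDim
import Mathlib.RingTheory.Ideal.KrullsHeightTheorem

/-!
# The top cohomology of the punctured spectrum at a maximal ideal is infinite dimensional
-/

set_option autoImplicit false
set_option linter.style.haveILetI false
set_option backward.isDefEq.respectTransparency false
set_option backward.isDefEq.respectTransparency.types false

universe u

open CategoryTheory CategoryTheory.Limits AlgebraicGeometry Opposite IsLocalRing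

noncomputable section

namespace Groth.L04.LocalInfinite

open Groth.L04.LC

section Algebra

variable {A : Type u} [CommRing A] [IsNoetherianRing A]

theorem not_finite_H_of_isMaximal (m : Ideal A) [m.IsMaximal] (d : ℕ) (hd : 0 < d) (hm : m.height = d) :
    ¬ Module.Finite A (LocCoh.H m d A) := by
  intro hfin
  obtain ⟨t, ht⟩ := hfin
  let S := m.primeCompl
  haveI : IsNoetherianRing (Localization S) := IsLocalization.isNoetherianRing S _ inferInstance
  have hloc := (locH_spec S m d A).1
  let R' := Localization S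
  let N := LocalizedModule S A
  have hfin' : Module.Finite R' (LocCoh.H (KS S m) d N) := by
    classical
    refine ⟨⟨t.image (locH S m d (ModuleCat.of A A)), eq_top_iff.2 fun y _ => ?_⟩⟩
    obtain ⟨x, s, hy⟩ := hloc y
    have hu : IsUnit (algebraMap A R' s) := IsLocalization.map_units R' s
    rw [← Submodule.smul_mem_iff_of_isUnit _ hu, hy]
    have hx : x ∈ Submodule.span A (t : Set (LocCoh.H m d A)) := ht ▸ Submodule.mem_top
    refine Submodule.span_induction (p := fun x _ => locH S m d (ModuleCat.of A A) x ∈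
      Submodule.span R' ((t.image (locH S m d (ModuleCat.of A A)) : Finset _) : Set _)) ?_ ?_ ?_ ?_ hx
    · exact fun w hw => Submodule.subset_span (Finset.mem_coe.2 (Finset.mem_image_of_mem _ hw))
    · rw [map_zero]; exact zero_mem _
    · intro a b _ _ ha hb
      exact (map_add (locH S m d (ModuleCat.of A A)) a b).symm ▸ add_mem ha hb
    · intro r a _ ha
      exact (locH_smul S m d (ModuleCat.of A A) r a).symm ▸ Submodule.smul_mem _ _ ha
  haveI : Module.Finite R' N := Module.Finite.of_isLocalizedModule S (LocalizedModule.mkLinearMap S A)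
  have hsupp : Module.supportDim R' N = (d : WithBot ℕ∞) := by
    let e : N ≃ₗ[R'] R' := ((IsLocalizedModule.iso S (Algebra.linearMap A R')).extendScalarsOfIsLocalization S R')
    rw [Module.supportDim_eq_of_equiv e, Module.supportDim_self_eq_ringKrullDim,
      IsLocalization.AtPrime.ringKrullDim_eq_height m R', hm]
    rfl
  have hK : KS S m = maximalIdeal R' := Localization.AtPrime.map_eq_maximalIdeal
  rw [hK] at hfin'
  exact not_finite_H_supportDim (R := R') N d hd hsupp hfin'

end Algebra

variable (k : Type u) [Field k] (A : Type u) [CommRing A] [IsDomain A] [Algebra k A] [Algebra.FiniteType k A]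

theorem finite_of_smul_eq {R T N : Type u} [CommRing R] [CommRing T] [AddCommGroup N] [Module R N] [Module T N]
    [Module.Finite R N] (φ : R →+* T) (h : ∀ (r : R) (x : N), r • x = φ r • x) : Module.Finite T N := by
  obtain ⟨t, ht⟩ := Module.Finite.fg_top (R := R) (M := N)
  refine ⟨⟨t, eq_top_iff.2 fun y _ => ?_⟩⟩
  have hy : y ∈ Submodule.span R (t : Set N) := ht ▸ Submodule.mem_top
  refine Submodule.span_induction (p := fun y _ => y ∈ Submodule.span T (t : Set N))
    (fun w hw => Submodule.subset_span hw) (zero_mem _) (fun a b _ _ ha hb => add_mem ha hb)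
    (fun r a _ ha => h r a ▸ Submodule.smul_mem _ _ ha) hy

theorem toGlobal_comp {R T : Type u} [CommRing R] [CommRing T] (φ : R →+* T) {Z : Scheme.{u}}
    (g : Z ⟶ Spec (CommRingCat.of T)) (a : R) :
    Coh.toGlobal (g ≫ Spec.map (CommRingCat.ofHom φ)) a = Coh.toGlobal g (φ a) := by
  change g.appTop.hom ((Spec.map (CommRingCat.ofHom φ)).appTop.hom
    ((Scheme.ΓSpecIso (CommRingCat.of R)).inv.hom a)) = g.appTop.hom ((Scheme.ΓSpecIso (CommRingCat.of T)).inv.hom (φ a))
  refine congrArg g.appTop.hom ?_
  exact (ConcreteCategory.congr_hom (Scheme.ΓSpecIso_inv_naturality (CommRingCat.ofHom φ)) a).symm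

set_option maxHeartbeats 1600000 in
theorem not_finite_punctured (m : Ideal A) [m.IsMaximal] (d : ℕ) (hd : 2 ≤ d) (hm : ringKrullDim A = d)
    [(LocCoh.puncturedOpen A m : Scheme.{u}).Over (Spec (CommRingCat.of k))]
    (hstr : (LocCoh.puncturedOpen A m).ι ≫ Spec.map (CommRingCat.ofHom (algebraMap k A)) =
      (LocCoh.puncturedOpen A m : Scheme.{u}) ↘ Spec (CommRingCat.of k)) :
    ¬ Module.Finite k (Coh.HH (LocCoh.puncturedOpen A m : Scheme.{u})
      (Coh.structureModule (LocCoh.puncturedOpen A m : Scheme.{u})) (d - 1)) := by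
  intro hfin
  haveI : IsNoetherianRing A := Algebra.FiniteType.isNoetherianRing k A
  haveI := hfin
  let U := LocCoh.puncturedOpen A m
  haveI : Module.Finite k (Coh.HH (U : Scheme.{u}) (PunctLin.tM U (ModuleCat.of A A)) (d - 1)) :=
    Groth.L16.CohLinear.finite_of_iso k
      ((Scheme.Modules.restrictFunctor U.ι).mapIso (tildeSelf (R := CommRingCat.of A)) ≪≫
        Scheme.Modules.restrictUnitIso U.ι).symm (d - 1)
  have hA : Module.Finite A (Coh.HH (U : Scheme.{u}) (PunctLin.tM U (ModuleCat.of A A)) (d - 1)) := by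
    refine finite_of_smul_eq (algebraMap k A) fun r a => ?_
    refine congrArg (fun c : Coh.Γtop (U : Scheme.{u}) => c • a) ?_
    exact (congrArg (fun g => Coh.toGlobal g r) hstr.symm).trans (toGlobal_comp (algebraMap k A) U.ι r)
  obtain ⟨p, hp⟩ : ∃ p, d = p + 2 := ⟨d - 2, by omega⟩
  subst hp
  obtain ⟨e⟩ := PunctLin.nonempty_equiv m p (ModuleCat.of A A)
  haveI hA' : Module.Finite A (Coh.HH (U : Scheme.{u}) (PunctLin.tM U (ModuleCat.of A A)) (p + 1)) := hA
  haveI : Module.Finite A (LocCoh.H m (p + 2) A) := @Module.Finite.equiv _ _ _ _ _ _ _ _ hA' e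
  refine not_finite_H_of_isMaximal m (p + 2) (by omega) ?_ inferInstance
  have h := Groth.L22.AffineDim.height_of_isMaximal k A m
  rw [hm] at h
  exact WithBot.coe_inj.1 (h.trans rfl)

end Groth.L04.LocalInfinite
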