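import Groth.Agent.L04.CohDimVan.HuNat
import Groth.Agent.L03.BlowPt.MVSurj

/-!
# Finiteness of cohomology on an intersection of two opens, over the base field
-/

set_option autoImplicit false
set_option linter.style.haveILetI false
set_option backward.isDefEq.respectTransparency false
set_option backward.isDefEq.respectTransparency.types false

universe u

open CategoryTheory CategoryTheory.Limits TopologicalSpace Opposite Abelian AlgebraicGeometry
open Groth.L17

noncomputable section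

namespace Groth.L04.MVFinite

variable {k : Type u} [CommRing k] {X Z Z' : Scheme.{u}} [X.Over (Spec (CommRingCat.of k))]
  [Z.Over (Spec (CommRingCat.of k))] [Z'.Over (Spec (CommRingCat.of k))]

/-- scalars from the base, as endomorphisms on an open subset -/
abbrev act {V : X.Opens} (M : X.Modules) {n : ℕ} (a : k) (x : HU (X := X.toTopCat) V (Coh.toAb M) n) :
    HU (X := X.toTopCat) V (Coh.toAb M) n :=
  huMap (Coh.smulAb M (Coh.toGlobal (X ↘ Spec (CommRingCat.of k)) a)) x

/-- cohomology of an open subscheme, linearly over the base -/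
theorem exists_baseEquiv (j : Z ⟶ X) [IsOpenImmersion j]
    (hj : j ≫ (X ↘ Spec (CommRingCat.of k)) = Z ↘ Spec (CommRingCat.of k)) {V : X.Opens}
    (hV : j.opensRange = V) (M : X.Modules) (n : ℕ) :
    ∃ e : Coh.HH Z (M.restrict j) n ≃+ HU (X := X.toTopCat) V (Coh.toAb M) n,
      ∀ (a : k) (x : Coh.HH Z (M.restrict j) n), e (a • x) = act M a (e x) := by
  subst hV
  obtain ⟨e, he⟩ := HuNat.exists_hhEquiv j M n
  refine ⟨e, fun a x => ?_⟩
  have h0 : Coh.toGlobal (Z ↘ Spec (CommRingCat.of k)) a =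
      (show Coh.Γtop Z from j.appTop (Coh.toGlobal (X ↘ Spec (CommRingCat.of k)) a)) :=
    congrArg (fun g : Z ⟶ Spec (CommRingCat.of k) => Coh.toGlobal g a) hj.symm
  exact (congrArg e (congrArg (fun c : Coh.Γtop Z => c • x) h0)).trans (he _ x)

theorem act_huRes {U V : X.Opens} (h : V ≤ U) (M : X.Modules) {n : ℕ} (a : k)
    (x : HU (X := X.toTopCat) U (Coh.toAb M) n) :
    huRes (X := X.toTopCat) h (act M a x) = act M a (huRes (X := X.toTopCat) h x) :=
  (Ext.comp_assoc_of_third_deg_zero _ _ _ _).symm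

theorem mv_exact {T : TopCat.{u}} {U V : Opens T} {F : AbSheaf T} {n : ℕ} (y : HU (U ⊓ V) F n) :
    (Opens.mayerVietorisSquare U V).shortComplex_shortExact.extClass.comp y (Nat.add_comm 1 n) = 0 ↔
      ∃ (a : HU U F n) (c : HU V F n),
        y = huRes (inf_le_left : U ⊓ V ≤ U) a + huRes (inf_le_right : U ⊓ V ≤ V) c := by
  let S := Opens.mayerVietorisSquare U V
  constructor
  · intro h
    obtain ⟨w, hw⟩ := Ext.contravariant_sequence_exact₁ (hS := S.shortComplex_shortExact) (Y := F) y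
      (Nat.add_comm 1 n) h
    refine ⟨(Ext.mk₀ biprod.inl).comp w (zero_add n), -(Ext.mk₀ biprod.inr).comp w (zero_add n), ?_⟩
    refine hw.symm.trans ?_
    refine Eq.trans ?_ (congrArg₂ (· + ·) (Groth.L03.BlowPt.huRes_left_eq _)
      (Groth.L03.BlowPt.huRes_right_eq _)).symm
    rw [← Ext.comp_add, neg_neg]
    congr 1
    apply Ext.biprod_ext <;> simp [← Category.assoc]
    · erw [biprod.inl_fst, biprod.inl_snd]
      simp
    · erw [biprod.inr_fst, biprod.inr_snd]
      simp
  · rintro ⟨a, c, rfl⟩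
    refine (congrArg (fun z => S.shortComplex_shortExact.extClass.comp z (Nat.add_comm 1 n))
      ((congrArg₂ (· + ·) (Groth.L03.BlowPt.huRes_left_eq a) (Groth.L03.BlowPt.huRes_right_eq c)).trans
        (Ext.comp_add _ _ _ _).symm)).trans ?_
    exact ShortComplex.ShortExact.extClass_comp_assoc _ _

variable [IsNoetherianRing k]

/-- finiteness on the intersection -/
theorem finite_inf {Z'' : Scheme.{u}} [Z''.Over (Spec (CommRingCat.of k))] (M : X.Modules) (n : ℕ)
    (U V : X.Opens)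
    (j₁ : Z ⟶ X) [IsOpenImmersion j₁] (hj₁ : j₁ ≫ (X ↘ Spec (CommRingCat.of k)) = Z ↘ Spec (CommRingCat.of k))
    (hU : j₁.opensRange = U)
    (j₂ : Z' ⟶ X) [IsOpenImmersion j₂] (hj₂ : j₂ ≫ (X ↘ Spec (CommRingCat.of k)) = Z' ↘ Spec (CommRingCat.of k))
    (hUV : j₂.opensRange = U ⊓ V)
    (j₃ : Z'' ⟶ X) [IsOpenImmersion j₃] (hj₃ : j₃ ≫ (X ↘ Spec (CommRingCat.of k)) = Z'' ↘ Spec (CommRingCat.of k))
    (hsup : j₃.opensRange = U ⊔ V)
    (hV : ∀ x : HU (X := X.toTopCat) V (Coh.toAb M) n, x = 0)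
    [Module.Finite k (Coh.HH Z (M.restrict j₁) n)] [Module.Finite k (Coh.HH Z'' (M.restrict j₃) (n + 1))] :
    Module.Finite k (Coh.HH Z' (M.restrict j₂) n) := by
  obtain ⟨e₁, he₁⟩ := exists_baseEquiv j₁ hj₁ hU M n
  obtain ⟨e₂, he₂⟩ := exists_baseEquiv j₂ hj₂ hUV M n
  obtain ⟨e₃, he₃⟩ := exists_baseEquiv j₃ hj₃ hsup M (n + 1)
  let S := Opens.mayerVietorisSquare (T := X.toTopCat) U V
  let f : Coh.HH Z (M.restrict j₁) n →ₗ[k] Coh.HH Z' (M.restrict j₂) n :=
    { toFun := fun x => e₂.symm (huRes (X := X.toTopCat) (inf_le_left : U ⊓ V ≤ U) (e₁ x))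
      map_add' := fun x y => by simp [huRes, Ext.comp_add]
      map_smul' := fun a x => by
        apply e₂.injective
        rw [RingHom.id_apply, he₂, AddEquiv.apply_symm_apply, AddEquiv.apply_symm_apply, he₁, act_huRes] }
  let δ : Coh.HH Z' (M.restrict j₂) n →ₗ[k] Coh.HH Z'' (M.restrict j₃) (n + 1) :=
    { toFun := fun x => e₃.symm (S.shortComplex_shortExact.extClass.comp (e₂ x) (Nat.add_comm 1 n))
      map_add' := fun x y => by simp [Ext.comp_add]
      map_smul' := fun a x => by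
        apply e₃.injective
        rw [RingHom.id_apply, he₃, AddEquiv.apply_symm_apply, AddEquiv.apply_symm_apply, he₂]
        exact (Ext.comp_assoc_of_third_deg_zero _ _ _ _).symm }
  refine Groth.L16.CohLinear.finite_of_exact k f δ fun y => ⟨fun hy => ?_, ?_⟩
  · obtain ⟨a, c, h⟩ := (mv_exact (e₂ y)).1 (e₃.symm.injective (hy.trans (map_zero _).symm))
    rw [hV c] at h
    refine ⟨e₁.symm a, e₂.injective ?_⟩
    show e₂ (e₂.symm _) = _
    rw [AddEquiv.apply_symm_apply, AddEquiv.apply_symm_apply, h]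
    simp [huRes]
  · rintro ⟨x, rfl⟩
    show e₃.symm _ = 0
    refine (congrArg e₃.symm ((mv_exact (e₂ (f x))).2 ⟨e₁ x, 0, ?_⟩)).trans (map_zero _)
    show e₂ (e₂.symm _) = _
    rw [AddEquiv.apply_symm_apply]
    simp [huRes]

end Groth.L04.MVFinite
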