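import Groth.Agent.L04.CohDimVan.IsolatedPoint
import Groth.Agent.L04.CohDimVan.LocalInfinite
import Groth.Agent.L04.CohDimVan.MVFinite
import Groth.Agent.L04.CohDimConn
import Groth.Agent.L16.ProperFinite
import Groth.Agent.L18.PushHLin

/-!
# Coherent cohomology of an open subscheme is infinite in some high degree
-/

set_option autoImplicit false
set_option linter.style.haveILetI false
set_option backward.isDefEq.respectTransparency false
set_option backward.isDefEq.respectTransparency.types false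

universe u

open CategoryTheory CategoryTheory.Limits AlgebraicGeometry TopologicalSpace Opposite

noncomputable section

namespace Groth.L04.InfiniteCoh

variable (k : Type u) [Field k]

/-- the structure map of an affine chart on rings -/
theorem specMap_chart {X : Scheme.{u}} (s : X ⟶ Spec (CommRingCat.of k)) {W : X.Opens} (hW : IsAffineOpen W) :
    Spec.map (CommRingCat.ofHom ((s.appLE ⊤ W le_top).hom.comp (Scheme.ΓSpecIso (CommRingCat.of k)).inv.hom)) =
      hW.fromSpec ≫ s := by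
  rw [← IsAffineOpen.SpecMap_appLE_fromSpec s (isAffineOpen_top _) hW le_top, IsAffineOpen.fromSpec_top,
    Scheme.isoSpec_Spec_inv, ← Spec.map_comp]
  rfl

/-- An isolated point of the boundary makes the top but one cohomology infinite dimensional. -/
theorem not_finite_of_isolated (X : Scheme.{u}) [X.Over (Spec (CommRingCat.of k))]
    [IsProper (X ↘ Spec (CommRingCat.of k))] [IsIntegral X] (d : ℕ) (hd : 2 ≤ d) (hdim : topologicalKrullDim X = d)
    (U : X.Opens) (y : X) (hy : IsClosed ({y} : Set X)) (W : X.Opens) (hW : IsAffineOpen W) (hyW : y ∈ W)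
    (hiso : ∀ z ∈ W, z ∉ U ↔ z = y) :
    ¬ Module.Finite k (Coh.HH (U : Scheme.{u}) (Coh.structureModule (U : Scheme.{u})) (d - 1)) := by
  intro hfin
  haveI := hfin
  haveI : IsLocallyNoetherian X := LocallyOfFiniteType.isLocallyNoetherian (X ↘ Spec (CommRingCat.of k))
  let M := Coh.structureModule X
  have hM : Coh.IsCoh M := Groth.L16.CohClosedPush.isCoh_structure
  haveI : Coh.IsQCoh M := hM.1
  obtain ⟨q, hq⟩ := hW.range_fromSpec.ge hyW
  let A := Γ(X, W)
  let φ : k →+* A := ((X ↘ Spec (CommRingCat.of k)).appLE ⊤ W le_top).hom.comp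
    (Scheme.ΓSpecIso (CommRingCat.of k)).inv.hom
  letI : Algebra k A := φ.toAlgebra
  haveI : Algebra.FiniteType k A := RingHom.finiteType_algebraMap.1
    ((show φ.FiniteType from ((X ↘ Spec (CommRingCat.of k)).finiteType_appLE (isAffineOpen_top _) hW le_top).comp
      (RingHom.FiniteType.of_surjective _ (Scheme.ΓSpecIso (CommRingCat.of k)).symm.commRingCatIsoToRingEquiv.surjective)))
  haveI : Nonempty W := ⟨⟨y, hyW⟩⟩
  haveI : IsDomain A := inferInstanceAs (IsDomain Γ(X, W))
  haveI : q.asIdeal.IsMaximal := by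
    refine (PrimeSpectrum.isClosed_singleton_iff_isMaximal q).1 ?_
    have h := hy.preimage hW.fromSpec.continuous
    rwa [show hW.fromSpec ⁻¹' {y} = {q} from Set.ext fun z =>
      ⟨fun hz => hW.fromSpec.isOpenEmbedding.injective (hz.trans hq.symm),
        fun hz => (congrArg hW.fromSpec hz).trans hq⟩] at h
  have hdA : ringKrullDim A = d := by
    obtain ⟨m, hm, -, hU⟩ := Groth.L22.SchemeDim.exists_dim_eq_trdeg k X
    have e1 : topologicalKrullDim (Spec A) = topologicalKrullDim W :=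
      (IsHomeomorph.topologicalKrullDim_eq _ (TopCat.homeoOfIso (Scheme.forgetToTop.mapIso hW.isoSpec.symm)).isHomeomorph)
    rw [← PrimeSpectrum.topologicalKrullDim_eq_ringKrullDim]
    exact e1.trans ((hU W ⟨y, hyW⟩).trans (hm.symm.trans hdim))
  let P := LocCoh.puncturedOpen A q.asIdeal
  let j₂ : (P : Scheme.{u}) ⟶ X := P.ι ≫ hW.fromSpec
  letI : (P : Scheme.{u}).Over (Spec (CommRingCat.of k)) := ⟨j₂ ≫ (X ↘ Spec (CommRingCat.of k))⟩
  have hP : ∀ z : PrimeSpectrum A, z ∈ P ↔ z ≠ q := fun z => by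
    show ¬ (q.asIdeal : Set A) ⊆ z.asIdeal ↔ z ≠ q
    refine not_congr ⟨fun h => PrimeSpectrum.ext ((Ideal.IsMaximal.eq_of_le inferInstance z.isPrime.ne_top h).symm),
      fun h => h ▸ Set.Subset.rfl⟩
  have hr : j₂.opensRange = U ⊓ W := by
    ext z
    constructor
    · rintro ⟨⟨w, hw⟩, rfl⟩
      have hzW : hW.fromSpec w ∈ W := hW.range_fromSpec.le ⟨w, rfl⟩
      refine ⟨?_, hzW⟩
      by_contra hU
      exact (hP w).1 hw (hW.fromSpec.isOpenEmbedding.injective (((hiso _ hzW).1 hU).trans hq.symm))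
    · rintro ⟨hzU, hzW⟩
      obtain ⟨w, hw⟩ := hW.range_fromSpec.ge hzW
      exact ⟨⟨w, (hP w).2 fun h => ((hiso z hzW).2 (by rw [← hw, h, hq])) hzU⟩, hw⟩
  haveI : Module.Finite k (Coh.HH (U : Scheme.{u}) (M.restrict U.ι) (d - 1)) :=
    Groth.L16.CohLinear.finite_of_iso k (Scheme.Modules.restrictUnitIso U.ι).symm (d - 1)
  let V := U ⊔ W
  haveI : Module.Finite k (Coh.HH (V : Scheme.{u}) (M.restrict V.ι) (d - 1 + 1)) := by
    have hc := Groth.L07.FittStrict.isCoh_restrict M hM V
    by_cases hV : V = ⊤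
    · haveI : IsIso V.ι := by
        refine isIso_of_isOpenImmersion_of_opensRange_eq_top V.ι ?_
        rw [Scheme.Opens.opensRange_ι, hV]
      haveI : IsProper ((V : Scheme.{u}) ↘ Spec (CommRingCat.of k)) :=
        inferInstanceAs (IsProper (V.ι ≫ (X ↘ Spec (CommRingCat.of k))))
      exact Groth.L16.ProperFinite.finite_HH k hc _
    · haveI := Groth.L04.CohDimConn.subsingleton_top_open (X ↘ Spec (CommRingCat.of k)) V hV
        (show 1 ≤ d - 1 + 1 by omega) (hdim.trans (by rw [show d - 1 + 1 = d by omega])) _ hc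
      infer_instance
  have hfin2 : Module.Finite k (Coh.HH (P : Scheme.{u}) (M.restrict j₂) (d - 1)) :=
    MVFinite.finite_inf M (d - 1) U W U.ι rfl (Scheme.Opens.opensRange_ι U) j₂ rfl hr V.ι rfl
      (Scheme.Opens.opensRange_ι V) (fun x => by
        obtain ⟨e, he⟩ : ∃ e, d - 1 = e + 1 := ⟨d - 2, by omega⟩
        revert x
        rw [he]
        exact Groth.L17.hu_affine_eq_zero M hW e)
  refine LocalInfinite.not_finite_punctured k A q.asIdeal d hd hdA ?_ ?_
  · show P.ι ≫ Spec.map (CommRingCat.ofHom φ) = j₂ ≫ _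
    rw [Category.assoc, specMap_chart k _ hW]
  · exact Groth.L16.CohLinear.finite_of_iso k (Scheme.Modules.restrictUnitIso j₂) (d - 1)

/-- Some coherent cohomology of the open is infinite dimensional. -/
theorem exists_infinite (X : Scheme.{u}) [X.Over (Spec (CommRingCat.of k))]
    [IsProper (X ↘ Spec (CommRingCat.of k))] [IsIntegral X] (n : ℕ) (hdim : topologicalKrullDim X = n)
    (U : X.Opens) (Z : Set ((U : Set X)ᶜ : Set X)) (hZ : Z ∈ irreducibleComponents ((U : Set X)ᶜ : Set X))
    (c : ℕ) (hc : topologicalKrullDim Z ≤ c) (hcn : c + 2 ≤ n) :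
    ∃ F : (U : Scheme.{u}).Modules, Coh.IsCoh F ∧ ∃ i : ℕ, n ≤ i + c + 1 ∧
      ¬ Module.Finite k (Coh.HH (U : Scheme.{u}) F i) := by
  obtain ⟨X', i, hi, hX', d, y, W, hd, hdc, hy, hW, hyW, hiso⟩ :=
    IsolatedPoint.exists_isolated k X n hdim _ U.2.isClosed_compl Z hZ c hc
  haveI := hi
  haveI := hX'
  letI : X'.Over (Spec (CommRingCat.of k)) := ⟨i ≫ (X ↘ Spec (CommRingCat.of k))⟩
  haveI : IsProper (X' ↘ Spec (CommRingCat.of k)) := inferInstanceAs (IsProper (i ≫ (X ↘ Spec (CommRingCat.of k))))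
  haveI : IsLocallyNoetherian X' := LocallyOfFiniteType.isLocallyNoetherian (X' ↘ Spec (CommRingCat.of k))
  let U' : X'.Opens := i ⁻¹ᵁ U
  have hO : Coh.IsCoh (Coh.structureModule (U' : Scheme.{u})) := Groth.L16.CohClosedPush.isCoh_structure
  haveI : IsClosedImmersion (i ∣_ U) := IsZariskiLocalAtTarget.restrict (P := @IsClosedImmersion) hi U
  refine ⟨(Coh.push (i ∣_ U)).obj (Coh.structureModule (U' : Scheme.{u})),
    Groth.L16.CohClosedPush.isCoh_push _ hO, d - 1, by omega, fun hfin => ?_⟩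
  have hπ : (i ∣_ U) ≫ ((U : Scheme.{u}) ↘ Spec (CommRingCat.of k)) = (U' : Scheme.{u}) ↘ Spec (CommRingCat.of k) := by
    show (i ∣_ U) ≫ U.ι ≫ _ = U'.ι ≫ i ≫ _
    rw [← Category.assoc, morphismRestrict_ι, Category.assoc]
  haveI := hfin
  exact not_finite_of_isolated k X' d (by omega) hd U' y hy W hW hyW
    (fun z hz => (show i z ∈ ((U : Set X)ᶜ) ↔ z = y from hiso z hz))
    (Module.Finite.equiv (Groth.L18.PushHLin.pushH (A := k) (i ∣_ U) hπ _ hO.1 (d - 1)))

end Groth.L04.InfiniteCoh
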