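import Groth.Agent.L22.AffineDim
import Groth.Agent.L22.SchemeDim
import Groth.Agent.L16.CohClosedPush
import Mathlib.RingTheory.Ideal.KrullsHeightTheorem

/-!
# A closed integral subscheme meeting a closed set in an isolated point
-/

set_option autoImplicit false
set_option linter.style.haveILetI false
set_option backward.isDefEq.respectTransparency false
set_option backward.isDefEq.respectTransparency.types false

universe u

open CategoryTheory CategoryTheory.Limits AlgebraicGeometry TopologicalSpace Topology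

noncomputable section

namespace Groth.L04.IsolatedPoint

/-- For a component of dimension at most `c` of a closed subset there is an integral closed subscheme of
dimension at least `n - c` meeting the closed subset in an isolated closed point. -/
theorem exists_isolated (k : Type u) [Field k] (X : Scheme.{u}) [X.Over (Spec (CommRingCat.of k))]
    [LocallyOfFiniteType (X ↘ Spec (CommRingCat.of k))] [QuasiCompact (X ↘ Spec (CommRingCat.of k))]
    [IsIntegral X] (n : ℕ) (hdim : topologicalKrullDim X = n) (Y : Set X) (hY : IsClosed Y)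
    (Z : Set Y) (hZ : Z ∈ irreducibleComponents Y) (c : ℕ) (hc : topologicalKrullDim Z ≤ c) :
    ∃ (X' : Scheme.{u}) (i : X' ⟶ X) (_ : IsClosedImmersion i) (_ : IsIntegral X') (d : ℕ) (y : X')
      (W : X'.Opens), topologicalKrullDim X' = d ∧ n ≤ d + c ∧ IsClosed ({y} : Set X') ∧ IsAffineOpen W ∧
        y ∈ W ∧ ∀ z : X', z ∈ W → (i z ∈ Y ↔ z = y) := by
  classical
  haveI : IsLocallyNoetherian X := LocallyOfFiniteType.isLocallyNoetherian (X ↘ Spec (CommRingCat.of k))
  haveI : CompactSpace X := QuasiCompact.compactSpace_of_compactSpace (X ↘ Spec (CommRingCat.of k))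
  haveI : AlgebraicGeometry.IsNoetherian X := {}
  haveI : JacobsonSpace X := LocallyOfFiniteType.jacobsonSpace (X ↘ Spec (CommRingCat.of k))
  haveI : NoetherianSpace Y := Topology.IsInducing.subtypeVal.noetherianSpace
  -- the component and the rest
  have hfin : (irreducibleComponents Y).Finite := NoetherianSpace.finite_irreducibleComponents
  let Zs : Set X := Subtype.val '' Z
  let R : Set X := ⋃ C ∈ irreducibleComponents Y \ {Z}, Subtype.val '' C
  have hval : Topology.IsClosedEmbedding (Subtype.val : Y → X) := hY.isClosedEmbedding_subtypeVal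
  have hZc : IsClosed Zs := hval.isClosedMap _ (isClosed_of_mem_irreducibleComponents Z hZ)
  have hZi : IsIrreducible Zs := hZ.1.image _ continuous_subtype_val.continuousOn
  have hRc : IsClosed R := (hfin.subset Set.diff_subset).isClosed_biUnion fun C hC =>
    hval.isClosedMap _ (isClosed_of_mem_irreducibleComponents C hC.1)
  have hne : (Zs \ R).Nonempty := by
    by_contra h
    rw [Set.not_nonempty_iff_eq_empty, Set.diff_eq_empty] at h
    obtain ⟨C, hC, hZC⟩ := isIrreducible_iff_sUnion_isClosed.1 hZ.1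
      (hfin.subset (Set.diff_subset (t := {Z}))).toFinset
      (fun C hC => isClosed_of_mem_irreducibleComponents C ((Set.Finite.mem_toFinset _).1 hC).1) (by
        intro x hx
        obtain ⟨C, hC, x', hx', e⟩ := Set.mem_iUnion₂.1 (h ⟨x, hx, rfl⟩)
        exact Set.mem_sUnion.2 ⟨C, (Set.Finite.mem_toFinset _).2 hC, (Subtype.val_injective e) ▸ hx'⟩)
    have hC' := (Set.Finite.mem_toFinset _).1 hC
    exact hC'.2 (Set.Subset.antisymm (hZ.2 hC'.1.1 hZC) hZC)
  obtain ⟨y, ⟨hyZ, hyR⟩, hyc⟩ := nonempty_inter_closedPoints hne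
    (hZc.isLocallyClosed.inter hRc.isOpen_compl.isLocallyClosed)
  obtain ⟨_, ⟨W, hW, rfl⟩, hyW, hWR⟩ :=
    X.isBasis_affineOpens.exists_subset_of_mem_open (show y ∈ Rᶜ from hyR) hRc.isOpen_compl
  let A := Γ(X, W)
  let j : Spec A ⟶ X := hW.fromSpec
  have hjr : Set.range j = (W : Set X) := hW.range_fromSpec
  have hYZ : ∀ q, j q ∈ Y ↔ j q ∈ Zs := fun q => by
    refine ⟨fun h => ?_, fun h => by obtain ⟨x, -, e⟩ := h; exact e ▸ x.2⟩
    obtain ⟨C, hC, hxC⟩ : ∃ C ∈ irreducibleComponents Y, (⟨j q, h⟩ : Y) ∈ C :=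
      ⟨_, irreducibleComponent_mem_irreducibleComponents _, mem_irreducibleComponent⟩
    by_cases hCZ : C = Z
    · exact ⟨_, hCZ ▸ hxC, rfl⟩
    · exact absurd (show j q ∈ R from Set.mem_iUnion₂.2 ⟨C, ⟨hC, hCZ⟩, _, hxC, rfl⟩) (hWR (hjr.le ⟨q, rfl⟩))
  obtain ⟨qy, hqy⟩ := hjr.ge hyW
  -- algebra structure on the chart
  let φ : k →+* A := ((X ↘ Spec (CommRingCat.of k)).appLE ⊤ W le_top).hom.comp
    (Scheme.ΓSpecIso (CommRingCat.of k)).inv.hom
  letI : Algebra k A := φ.toAlgebra
  haveI : Algebra.FiniteType k A := RingHom.finiteType_algebraMap.1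
    ((show φ.FiniteType from ((X ↘ Spec (CommRingCat.of k)).finiteType_appLE (isAffineOpen_top _) hW le_top).comp
      (RingHom.FiniteType.of_surjective _ (Scheme.ΓSpecIso (CommRingCat.of k)).symm.commRingCatIsoToRingEquiv.surjective)))
  haveI : Nonempty W := ⟨⟨y, hyW⟩⟩
  haveI : IsDomain A := inferInstanceAs (IsDomain Γ(X, W))
  haveI : IsNoetherianRing A := Algebra.FiniteType.isNoetherianRing k A
  have hdimA : ringKrullDim A = n := by
    obtain ⟨m, hm, -, hU⟩ := Groth.L22.SchemeDim.exists_dim_eq_trdeg k X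
    have e1 : topologicalKrullDim (Spec A) = topologicalKrullDim W :=
      (IsHomeomorph.topologicalKrullDim_eq _ (TopCat.homeoOfIso (Scheme.forgetToTop.mapIso hW.isoSpec.symm)).isHomeomorph)
    rw [← PrimeSpectrum.topologicalKrullDim_eq_ringKrullDim]
    exact e1.trans ((hU W ⟨y, hyW⟩).trans (hm.symm.trans hdim))
  -- the prime of the component
  have hZW : (j ⁻¹' Zs).Nonempty := ⟨qy, by show j qy ∈ Zs; rw [hqy]; exact hyZ⟩
  have hZWi : IsIrreducible (j ⁻¹' Zs) :=
    hZi.preimage j.isOpenEmbedding ⟨y, hyZ, hjr.ge hyW⟩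
  have hgen : IsGenericPoint hZWi.genericPoint (j ⁻¹' Zs) :=
    hZWi.isGenericPoint_genericPoint (hZc.preimage j.continuous)
  let 𝔷 := hZWi.genericPoint.asIdeal
  have hmem : ∀ q, j q ∈ Zs ↔ 𝔷 ≤ q.asIdeal := fun q =>
    hgen.specializes_iff_mem.symm.trans (PrimeSpectrum.le_iff_specializes _ _).symm
  have hzy : 𝔷 ≤ qy.asIdeal := (hmem qy).1 (hqy.symm ▸ hyZ)
  haveI : qy.asIdeal.IsMaximal := by
    refine (PrimeSpectrum.isClosed_singleton_iff_isMaximal qy).1 ?_
    have h := (show IsClosed ({y} : Set X) from hyc).preimage j.continuous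
    rwa [show j ⁻¹' {y} = {qy} from Set.ext fun q =>
      ⟨fun hq => j.isOpenEmbedding.injective (hq.trans hqy.symm), fun hq => (congrArg j hq).trans hqy⟩] at h
  let B := A ⧸ 𝔷
  have hB : ringKrullDim B ≤ c := by
    rw [← PrimeSpectrum.topologicalKrullDim_eq_ringKrullDim]
    let g : PrimeSpectrum B → Z := fun q =>
      let q' := PrimeSpectrum.comap (Ideal.Quotient.mk 𝔷) q
      have h : j q' ∈ Zs := (hmem q').2 fun a ha => by
        show Ideal.Quotient.mk 𝔷 a ∈ q.asIdeal
        rw [Ideal.Quotient.eq_zero_iff_mem.2 ha]; exact zero_mem _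
      ⟨⟨j q', (hYZ q').2 h⟩, by obtain ⟨x, hx, e⟩ := h; exact (Subtype.ext e : x = ⟨j q', _⟩) ▸ hx⟩
    have h1 : Topology.IsInducing (fun q : PrimeSpectrum B => j (PrimeSpectrum.comap (Ideal.Quotient.mk 𝔷) q)) :=
      j.isOpenEmbedding.isInducing.comp
        (PrimeSpectrum.isClosedEmbedding_comap_of_surjective _ _ Ideal.Quotient.mk_surjective).isInducing
    have h2 : Topology.IsInducing g :=
      (Topology.IsInducing.subtypeVal.comp Topology.IsInducing.subtypeVal).of_comp_iff.1 h1
    exact h2.topologicalKrullDim_le.trans hc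
  let mB : Ideal B := qy.asIdeal.map (Ideal.Quotient.mk 𝔷)
  haveI : mB.IsPrime := Ideal.map_isPrime_of_surjective Ideal.Quotient.mk_surjective (by rwa [Ideal.mk_ker])
  obtain ⟨s, hs, hscard⟩ := mB.exists_finset_card_eq_height_of_isNoetherianRing
  have hsc : s.card ≤ c := by
    have h1 := (Ideal.height_le_ringKrullDim_of_ne_top (I := mB) (Ideal.IsPrime.ne_top ‹_›)).trans hB
    rw [← hscard] at h1
    exact_mod_cast h1
  let t : Finset A := s.image Quotient.out
  have hts : ∀ b ∈ s, Ideal.Quotient.mk 𝔷 (Quotient.out b) = b := fun b _ => Quotient.out_eq b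
  have htm : Ideal.span (t : Set A) ≤ qy.asIdeal := Ideal.span_le.2 fun a ha => by
    obtain ⟨b, hb, rfl⟩ := Finset.mem_image.1 ha
    have hb' : Ideal.Quotient.mk 𝔷 (Quotient.out b) ∈ mB := (hts b hb).symm ▸ hs.1.2 (Ideal.subset_span hb)
    rwa [Ideal.mem_quotient_iff_mem hzy] at hb'
  obtain ⟨P, hP, hPm⟩ := Ideal.exists_minimalPrimes_le htm
  haveI := hP.1.1
  have hPc : P.height ≤ c :=
    (Ideal.height_le_card_of_mem_minimalPrimes_span_finset hP).trans
      (by exact_mod_cast (Finset.card_image_le.trans hsc))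
  obtain ⟨h, e, d₀, hh, he, hd₀, hhe⟩ := Groth.L22.AffineDim.dim_formula k A P
  have hne' : n ≤ e + c := by
    rw [hdimA] at hd₀
    have : d₀ = n := by exact_mod_cast hd₀.symm
    rw [hh] at hPc
    have : h ≤ c := by exact_mod_cast hPc
    omega
  have huniq : ∀ q : PrimeSpectrum A, P ≤ q.asIdeal → 𝔷 ≤ q.asIdeal → q.asIdeal ≤ qy.asIdeal → q = qy := by
    intro q hPq hzq hqm
    refine PrimeSpectrum.ext (le_antisymm hqm fun a ha => ?_)
    haveI : (q.asIdeal.map (Ideal.Quotient.mk 𝔷)).IsPrime :=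
      Ideal.map_isPrime_of_surjective Ideal.Quotient.mk_surjective (by rwa [Ideal.mk_ker])
    have hle : mB ≤ q.asIdeal.map (Ideal.Quotient.mk 𝔷) := hs.2 ⟨inferInstance, Ideal.span_le.2 fun b hb => by
      rw [← hts b hb]
      exact Ideal.mem_map_of_mem _ (hPq (hP.1.2 (Ideal.subset_span (Finset.mem_image_of_mem _ hb))))⟩
      (Ideal.map_mono hqm)
    exact (Ideal.mem_quotient_iff_mem hzq).1 (hle (Ideal.mem_map_of_mem _ ha))
  -- the subscheme
  obtain ⟨X', i, hi, hX', hgi, hri⟩ := Groth.L16.CohClosedPush.exists_integral (j (⟨P, inferInstance⟩ : PrimeSpectrum A))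
  haveI := hi
  haveI := hX'
  letI : X'.Over (Spec (CommRingCat.of k)) := ⟨i ≫ (X ↘ Spec (CommRingCat.of k))⟩
  haveI : LocallyOfFiniteType (X' ↘ Spec (CommRingCat.of k)) :=
    inferInstanceAs (LocallyOfFiniteType (i ≫ (X ↘ Spec (CommRingCat.of k))))
  obtain ⟨d, hd, -, -⟩ := Groth.L22.SchemeDim.exists_dim_eq_trdeg k X'
  have hspec : ∀ q : PrimeSpectrum A, P ≤ q.asIdeal → j q ∈ Set.range i := fun q hq => by
    rw [hri, ← specializes_iff_mem_closure]
    exact ((PrimeSpectrum.le_iff_specializes ⟨P, inferInstance⟩ q).1 hq).map j.continuous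
  have hde : e ≤ d := by
    have h3 : ∀ q : PrimeSpectrum (A ⧸ P), ∃ z, i z = j (PrimeSpectrum.comap (Ideal.Quotient.mk P) q) := fun q =>
      hspec _ fun a ha => by
        show Ideal.Quotient.mk P a ∈ q.asIdeal
        rw [Ideal.Quotient.eq_zero_iff_mem.2 ha]; exact zero_mem _
    choose g hg using h3
    have h1 : Topology.IsInducing (fun q : PrimeSpectrum (A ⧸ P) => j (PrimeSpectrum.comap (Ideal.Quotient.mk P) q)) :=
      j.isOpenEmbedding.isInducing.comp
        (PrimeSpectrum.isClosedEmbedding_comap_of_surjective _ _ Ideal.Quotient.mk_surjective).isInducing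
    have h2 : Topology.IsInducing g := i.isClosedEmbedding.isInducing.of_comp_iff.1 (by rwa [show ⇑i ∘ g = _ from funext hg])
    have h4 := h2.topologicalKrullDim_le
    rw [PrimeSpectrum.topologicalKrullDim_eq_ringKrullDim, he, hd] at h4
    exact_mod_cast h4
  obtain ⟨y', hy'⟩ := hspec qy hPm
  rw [hqy] at hy'
  have hy'c : IsClosed ({y'} : Set X') := by
    have h := (show IsClosed ({y} : Set X) from hyc).preimage i.continuous
    rwa [show i ⁻¹' {y} = {y'} from Set.ext fun z =>
      ⟨fun hz => i.isClosedEmbedding.injective (hz.trans hy'.symm), fun hz => (congrArg i hz).trans hy'⟩] at h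
  -- `y'` is isolated in the trace
  have hgenz : ∀ z : X', i z ∈ Y → z ⤳ y' → z = y' := fun z hzY hz => by
    have hzy' : i z ⤳ y := hy' ▸ hz.map i.continuous
    obtain ⟨q, hq⟩ := hjr.ge (hzy'.mem_open W.2 hyW)
    have hqm : q.asIdeal ≤ qy.asIdeal := (PrimeSpectrum.le_iff_specializes q qy).2
      (j.isOpenEmbedding.isInducing.specializes_iff.1 (by rwa [hq, hqy]))
    have hPq : P ≤ q.asIdeal := (PrimeSpectrum.le_iff_specializes ⟨P, inferInstance⟩ q).2
      (j.isOpenEmbedding.isInducing.specializes_iff.1 (specializes_iff_mem_closure.2 (by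
        rw [hq]
        exact hri.le ⟨z, rfl⟩)))
    have := huniq q hPq ((hmem q).1 ((hYZ q).1 (hq.symm ▸ hzY))) hqm
    refine i.isClosedEmbedding.injective ?_
    rw [hy', ← hq, this, hqy]
  haveI : NoetherianSpace X' := i.isClosedEmbedding.isInducing.noetherianSpace
  let T : Set X' := i ⁻¹' Y
  have hT : IsClosed T := hY.preimage i.continuous
  haveI : NoetherianSpace T := Topology.IsInducing.subtypeVal.noetherianSpace
  let R' : Set X' := ⋃ C ∈ {C ∈ irreducibleComponents T | y' ∉ Subtype.val '' C}, Subtype.val '' C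
  have hR' : IsClosed R' := ((NoetherianSpace.finite_irreducibleComponents).subset
    (Set.sep_subset _ _)).isClosed_biUnion fun C hC =>
      hT.isClosedEmbedding_subtypeVal.isClosedMap _ (isClosed_of_mem_irreducibleComponents C hC.1)
  have hy'R : y' ∉ R' := fun h => by
    obtain ⟨C, hC, hyC⟩ := Set.mem_iUnion₂.1 h
    exact hC.2 hyC
  obtain ⟨_, ⟨W', hW', rfl⟩, hy'W, hW'R⟩ :=
    X'.isBasis_affineOpens.exists_subset_of_mem_open (show y' ∈ R'ᶜ from hy'R) hR'.isOpen_compl
  refine ⟨X', i, inferInstance, inferInstance, d, y', W', hd, by omega, hy'c, hW', hy'W, fun z hz => ?_⟩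
  refine ⟨fun hzY => ?_, fun h => ?_⟩
  · obtain ⟨C, hC, hzC⟩ : ∃ C ∈ irreducibleComponents T, (⟨z, hzY⟩ : T) ∈ C :=
      ⟨_, irreducibleComponent_mem_irreducibleComponents _, mem_irreducibleComponent⟩
    have hyC : y' ∈ Subtype.val '' C := by
      by_contra h
      exact hW'R hz (Set.mem_iUnion₂.2 ⟨C, ⟨hC, h⟩, _, hzC, rfl⟩)
    let C' : Set X' := Subtype.val '' C
    have hC'i : IsIrreducible C' := hC.1.image _ continuous_subtype_val.continuousOn
    have hC'c : IsClosed C' :=
      hT.isClosedEmbedding_subtypeVal.isClosedMap _ (isClosed_of_mem_irreducibleComponents C hC)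
    have hg := hC'i.isGenericPoint_genericPoint hC'c
    have hgY : i hC'i.genericPoint ∈ Y := by
      obtain ⟨x, -, hx⟩ := hg.mem
      exact hx ▸ x.2
    have hgy := hgenz _ hgY (hg.specializes hyC)
    have hzc : z ∈ closure ({y'} : Set X') := by
      rw [← hgy, hg.def]
      exact ⟨_, hzC, rfl⟩
    rwa [hy'c.closure_eq] at hzc
  · subst h
    show i z ∈ Y
    rw [hy']
    exact (show y ∈ Y from (by obtain ⟨x, -, e⟩ := hyZ; exact e ▸ x.2))

end Groth.L04.IsolatedPoint
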